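import Groth.Agent.FinCovLib.Rank
import Groth.Agent.FinCovLib.Cover
import Groth.Agent.DCohLib.ProjFlf
import Groth.Agent.IntLib.Push
import Groth.Agent.CurveLib.Euler
import Groth.Agent.CurveLib.DegTensor
import Groth.Agent.CurveLib.Inv
import Groth.Agent.InvExt.Main
import Groth.Agent.StalkHomLib.HomSect

/-!
# Vanishing of cohomology descends along finite locally free covers of invertible degree
-/

set_option autoImplicit false
set_option backward.isDefEq.respectTransparency false
set_option linter.style.haveILetI false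

universe u

open CategoryTheory CategoryTheory.Limits AlgebraicGeometry TopologicalSpace Opposite
open Groth.Agent Groth.Agent.DCohLib Groth.Agent.CurveLib

noncomputable section

namespace Groth.Agent.AmpleVanLib

variable {X Y : Scheme.{u}}

/-- Retracts inherit the vanishing of cohomology. -/
theorem subsingleton_HH_of_retract {M N : X.Modules} (r : Retract M N) (j : ℕ)
    (h : Subsingleton (Coh.HH X N j)) : Subsingleton (Coh.HH X M j) := by
  refine ⟨fun a b => ?_⟩
  have key : ∀ x : Coh.HH X M j,
      Sheaf.H.map ((QCohLib.toAbF X).map r.r) j (Sheaf.H.map ((QCohLib.toAbF X).map r.i) j x) = x := fun x => by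
    have e := (congrArg (QCohLib.toAbF X).map r.retract).trans ((QCohLib.toAbF X).map_id M)
    rw [← Sheaf.H.map_comp_apply, ← Functor.map_comp, e]
    exact Sheaf.H.map_id_apply _
  rw [← key a, ← key b]
  exact congrArg _ (Subsingleton.elim (α := Coh.HH X N j) _ _)

/-- Cohomology of a direct image under an affine morphism. -/
theorem subsingleton_HH_push_iff (f : X ⟶ Y) [IsAffineHom f] (M : X.Modules) [Coh.IsQCoh M] (j : ℕ) :
    Subsingleton (Coh.HH Y ((Scheme.Modules.pushforward f).obj M) j) ↔ Subsingleton (Coh.HH X M j) := by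
  obtain ⟨e, -⟩ := ProperFin.exists_pushEquiv f (M := M)
    (fun _ hV m => CohBase.affine_vanishing M (hV.preimage f) m) j
  exact e.toEquiv.subsingleton_congr.symm

/-- The trace retraction. -/
theorem exists_retraction (f : X ⟶ Y) [IsAffineHom f] {d : ℕ} (hf : FinCov.IsCover f d)
    (hd : IsUnit ((d : Γ(Y, ⊤)))) :
    ∃ r : (Scheme.Modules.pushforward f).obj (Coh.structureModule X) ⟶ Coh.structureModule Y,
      ClSub.unitToPush f ≫ r = 𝟙 _ := by
  let A := RelSpec.QCAlg.directImage f
  let e : A.toModule ≅ (Scheme.Modules.pushforward f).obj (Coh.structureModule X) := Iso.refl _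
  have hA : FlatMod.IsFinLocFreeOfRank d A.toModule := ((FinCovLib.isCover_iff f d).1 hf).2
  obtain ⟨τ, hτ⟩ := FinCovLib.exists_isTrace (A := A) (FinCovLib.isFinLocFree_of_rank hA)
  obtain ⟨c, hc⟩ := FinCovLib.exists_half hd
  refine ⟨e.inv ≫ τ ≫ DCohLib.secHom (Coh.structureModule Y) c, DCohLib.hom_unit_ext ?_⟩
  show (DCohLib.secHom (Coh.structureModule Y) c).app ⊤ (τ.app ⊤ ((f.app ⊤).hom (1 : Γ(Y, ⊤)))) = (1 : Γ(Y, ⊤))
  rw [show τ.app ⊤ ((f.app ⊤).hom (1 : Γ(Y, ⊤))) = (d : Γ(Y, ⊤)) * 1 from FinCovLib.app_algebraMap hA hτ 1]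
  refine (((DCohLib.secHom (Coh.structureModule Y) c).val.app (op ⊤)).hom.map_smul (d : Γ(Y, ⊤)) (1 : Γ(Y, ⊤))).trans ?_
  have h1 := DCohLib.secHom_app_one (Coh.structureModule Y) c ⊤
  refine (congrArg (fun z : Γ(Y, ⊤) => (d : Γ(Y, ⊤)) * z) (h1.trans ?_)).trans hc
  exact congrArg (fun h => (Y.presheaf.map h).hom c) (Subsingleton.elim _ (𝟙 _)) |>.trans (by simp)

/-- Vanishing descends along a finite locally free cover of invertible degree. -/
theorem subsingleton_of_pullback (f : X ⟶ Y) [IsAffineHom f] {d : ℕ} (hf : FinCov.IsCover f d)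
    (hd : IsUnit ((d : Γ(Y, ⊤)))) {L : Y.Modules} (hL : PicF.IsInvertible L) (j : ℕ)
    (h : Subsingleton (Coh.HH X ((Scheme.Modules.pullback f).obj L) j)) : Subsingleton (Coh.HH Y L j) := by
  obtain ⟨r, hr⟩ := exists_retraction f hf hd
  have hflf : FlatMod.IsFinLocFree L := CurveLib.isFinLocFree_of_isInvertible hL
  haveI := isIso_projMap_of_flf f hflf (Coh.structureModule X)
  let e : tmod ((Scheme.Modules.pushforward f).obj (Coh.structureModule X)) L ≅
      (Scheme.Modules.pushforward f).obj ((Scheme.Modules.pullback f).obj L) :=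
    asIso (projMap f (Coh.structureModule X) L) ≪≫
      (Scheme.Modules.pushforward f).mapIso (tmodUnit ((Scheme.Modules.pullback f).obj L))
  let T := (DCoh.tensorBi (X := Y)).flip.obj L
  let R : Retract L ((Scheme.Modules.pushforward f).obj ((Scheme.Modules.pullback f).obj L)) :=
    { i := (tmodUnit L).inv ≫ T.map (ClSub.unitToPush f) ≫ e.hom
      r := e.inv ≫ T.map r ≫ (tmodUnit L).hom
      retract := by
        simp only [Category.assoc, Iso.hom_inv_id_assoc]
        rw [← T.map_comp_assoc, hr, T.map_id, Category.id_comp, Iso.inv_hom_id] }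
  haveI : Coh.IsQCoh ((Scheme.Modules.pullback f).obj L) :=
    InvExt.isQCoh_of_isInvertible (AmpleLib.isInvertible_pullback f hL)
  exact subsingleton_HH_of_retract R j ((subsingleton_HH_push_iff f _ j).2 h)

/-- Cohomology is invariant under isomorphisms. -/
theorem subsingleton_pullback_iso (f : X ⟶ Y) [IsIso f] {L : Y.Modules} (hL : PicF.IsInvertible L) (j : ℕ)
    (h : Subsingleton (Coh.HH Y L j)) : Subsingleton (Coh.HH X ((Scheme.Modules.pullback f).obj L) j) := by
  haveI : Coh.IsQCoh ((Scheme.Modules.pullback f).obj L) :=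
    InvExt.isQCoh_of_isInvertible (AmpleLib.isInvertible_pullback f hL)
  haveI := StalkHomLib.isIso_unit_of_isIso f L
  let e : L ≅ (Scheme.Modules.pushforward f).obj ((Scheme.Modules.pullback f).obj L) :=
    asIso ((Scheme.Modules.restrictAdjunction f).unit.app L) ≪≫
      (Scheme.Modules.pushforward f).mapIso ((Scheme.Modules.restrictFunctorIsoPullback f).app L)
  exact (subsingleton_HH_push_iff f _ j).1 (subsingleton_HH_of_retract (Retract.ofIso e.symm) j h)

end Groth.Agent.AmpleVanLib
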