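import Groth.Agent.AmpleVanLib.Descend
import Groth.Agent.AVLib.Deg.AV
import Groth.Agent.AVLib.Stab
import Groth.Agent.AVLib.Square
import Groth.Agent.AVLib.GeomInt
import Groth.Agent.PicAVLib.Invariant
import Groth.Agent.AmpleEmb.Serre
import Groth.Agent.NakaiLib.Big
import Groth.Agent.FinCovLib.Cover
import Groth.Agent.S7859

/-!
# Vanishing of the higher cohomology of ample modules on abelian varieties
-/

set_option autoImplicit false
set_option backward.isDefEq.respectTransparency false
set_option linter.style.haveILetI false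

universe u

open CategoryTheory CategoryTheory.Limits MonoidalCategory CartesianMonoidalCategory MonObj AlgebraicGeometry
open Groth.Agent Groth.Agent.PicLib Groth.Agent.AVLib Groth.Agent.AmpleLib

noncomputable section

namespace Groth.Agent.AmpleVanLib

variable {K : Type u} [Field K] [IsAlgClosed K] {A : Over (Spec (CommRingCat.of K))} [GrpObj A] [IsProper A.hom]
  [GeometricallyIntegral A.hom]

omit [IsAlgClosed K] in
/-- The defect of symmetry is translation invariant. -/
theorem symDefect_invariant (c : Pic A.left) (a : 𝟙_ (Over (Spec (CommRingCat.of K))) ⟶ A) :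
    pull (trR a).left (pull ((𝟙 A)⁻¹).left c / c) = pull ((𝟙 A)⁻¹).left c / c := by
  rw [map_div, div_eq_div_iff_mul_eq_mul]
  exact pull_trR_inv c a

/-- Inverse image under multiplication is a translate of a power. -/
theorem exists_translate_npow {L : A.left.Modules} (hL : CohB1.IsAmple L) (m : ℕ) (hm : 0 < m) :
    ∃ x : 𝟙_ (Over (Spec (CommRingCat.of K))) ⟶ A,
      Nonempty ((Scheme.Modules.pullback (𝟙 A ^ m).left).obj L ≅
        (Scheme.Modules.pullback (trR x).left).obj (CohB1.tensorPow L (m ^ 2))) := by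
  have hm2 : 0 < m ^ 2 := pow_pos hm 2
  have hA : CohB1.IsAmple (CohB1.tensorPow L (m ^ 2)) := (isAmple_pow_iff hL.1 hm2).2 hL
  set c := cls hL.1
  set d := pull ((𝟙 A)⁻¹).left c / c
  have hinv : ∀ a, pull (trR a).left (d ^ m.choose 2) = d ^ m.choose 2 := fun a => by
    rw [map_pow, symDefect_invariant]
  have hfin := finite_stab hA
  rw [cls_tensorPow hL.1] at hfin
  obtain ⟨x, hx⟩ := PicAVLib.exists_phi_eq_of_invariant (c ^ m ^ 2) hfin hinv
  refine ⟨x, (cls_eq_cls (isInvertible_pullback _ hL.1) (isInvertible_pullback _ hA.1)).1 ?_⟩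
  rw [← pull_cls _ hL.1, ← pull_cls _ hA.1, cls_tensorPow hL.1, nat_pull]
  have hcc : (m + 1).choose 2 + m.choose 2 = m ^ 2 := by
    clear_value c d
    clear hx x hinv hfin hA hm2 hm
    induction m with
    | zero => rfl
    | succ n ih =>
      have h1 : (n + 1 + 1).choose 2 = n + 1 + (n + 1).choose 2 := by
        rw [Nat.choose_succ_succ' (n + 1) 1, Nat.choose_one_right]
      have h2 : (n + 1).choose 2 = n + n.choose 2 := by
        rw [Nat.choose_succ_succ' n 1, Nat.choose_one_right]
      have h3 : (n + 1) ^ 2 = n ^ 2 + 2 * n + 1 := by ring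
      omega
  have h4 : c ^ (m + 1).choose 2 * pull ((𝟙 A)⁻¹).left c ^ m.choose 2 = c ^ m ^ 2 * d ^ m.choose 2 := by
    rw [← hcc, pow_add, _root_.mul_assoc, ← mul_pow, mul_div_cancel]
  rw [h4, ← hx, PoincareLib.phi_apply, mul_div_cancel]

theorem main (L : A.left.Modules) (hL : CohB1.IsAmple L) :
    (∀ j : ℕ, 0 < j → Subsingleton (Coh.HH A.left L j)) ∧ Nontrivial (Coh.HH A.left L 0) := by
  classical
  letI : A.left.Over (Spec (CommRingCat.of K)) := ⟨A.hom⟩
  haveI : IsProper (A.left ↘ Spec (CommRingCat.of K)) := ‹IsProper A.hom›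
  haveI := EulerIneqLib.isNoetherian_proper (X := A.left) K
  haveI : Subsingleton ↥(Spec (CommRingCat.of K)) := inferInstanceAs (Subsingleton (PrimeSpectrum K))
  haveI : IsIntegral A.left := GeometricallyIntegral.isIntegral_of_subsingleton A.hom
  obtain ⟨g, hg⟩ := AVLib.exists_dim (A := A)
  have hO := ParaFLib.isInvertible_structureModule (X := A.left)
  obtain ⟨N, hN⟩ := AmpleEmb.serre_vanishing A.hom hL (CurveLib.isCoh_of_isInvertible hO)
  obtain ⟨q, hq⟩ := Nakai.exists_h_ne_zero K hL hO
  -- a large integer invertible in the field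
  obtain ⟨m, hm, hmK⟩ : ∃ m : ℕ, N + q + 1 ≤ m ∧ (m : K) ≠ 0 := by
    by_cases h : ((N + q + 1 : ℕ) : K) = 0
    · refine ⟨N + q + 2, by omega, fun h2 => one_ne_zero (α := K) ?_⟩
      push_cast at h h2
      linear_combination h2 - h
    · exact ⟨_, le_rfl, h⟩
  have hm2 : N + q + 1 ≤ m ^ 2 := hm.trans (by nlinarith)
  have hLm := isInvertible_tensorPow hL.1 (m ^ 2)
  have hvan : ∀ j, 0 < j → Subsingleton (Coh.HH A.left (CohB1.tensorPow L (m ^ 2)) j) := fun j hj =>
    subsingleton_HH_of_retract (Retract.ofIso (CurveLib.tmodUnit (CohB1.tensorPow L (m ^ 2))).symm) j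
      (hN (m ^ 2) (by omega) j hj)
  obtain ⟨x, ⟨e⟩⟩ := exists_translate_npow hL m (by omega)
  haveI := isIso_trR x
  have hvan' : ∀ j, 0 < j → Subsingleton (Coh.HH A.left ((Scheme.Modules.pullback (𝟙 A ^ m).left).obj L) j) :=
    fun j hj => subsingleton_HH_of_retract (Retract.ofIso e) j
      (subsingleton_pullback_iso (trR x).left hLm j (hvan j hj))
  obtain ⟨hfi, hfl, hdeg⟩ := AVLib.npow_spec hg m (by omega)
  haveI := hfi
  haveI := hfl
  have hcov : FinCov.IsCover (𝟙 A ^ m).left (m ^ (2 * g)) := ⟨⟨inferInstance, inferInstance, inferInstance⟩, hdeg⟩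
  have hunit : IsUnit ((m ^ (2 * g) : ℕ) : Γ(A.left, ⊤)) := by
    rw [Nat.cast_pow, ← map_natCast (Coh.toGlobal (A.left ↘ Spec (CommRingCat.of K))) m]
    exact ((isUnit_iff_ne_zero.2 hmK).map _).pow _
  have h1 : ∀ j, 0 < j → Subsingleton (Coh.HH A.left L j) := fun j hj =>
    subsingleton_of_pullback (𝟙 A ^ m).left hcov hunit hL.1 j (hvan' j hj)
  refine ⟨h1, ?_⟩
  by_contra hn
  haveI := not_nontrivial_iff_subsingleton.1 hn
  have h0 : Curv2.euler K A.left L = 0 := finsum_eq_zero_of_forall_eq_zero fun p => by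
    rcases Nat.eq_zero_or_pos p with rfl | hp
    · simp [Module.finrank_zero_of_subsingleton]
    · haveI := h1 p hp
      simp [Module.finrank_zero_of_subsingleton]
  have h2 := Groth.Agent.S7859.result K A A (𝟙 A ^ m) (m ^ (2 * g)) hdeg L (CurveLib.isCoh_of_isInvertible hL.1)
  have hinv := isInvertible_pullback (𝟙 A ^ m).left hL.1
  have hi' := isInvertible_pullback (trR x).left hLm
  have h3 : Curv2.euler K A.left ((Scheme.Modules.pullback (𝟙 A ^ m).left).obj L) =
      Curv2.euler K A.left (CohB1.tensorPow L (m ^ 2)) := by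
    rw [CurveLib.euler_iso (K := K) e]
    haveI := StalkHomLib.isIso_unit_of_isIso (trR x).left (CohB1.tensorPow L (m ^ 2))
    haveI : Coh.IsQCoh ((Scheme.Modules.pullback (trR x).left).obj (CohB1.tensorPow L (m ^ 2))) :=
      InvExt.isQCoh_of_isInvertible hi'
    rw [← IntLib.euler_push K (trR x).left (Over.w (trR x))]
    exact CurveLib.euler_iso (K := K) (asIso ((Scheme.Modules.restrictAdjunction (trR x).left).unit.app _) ≪≫
      (Scheme.Modules.pushforward (trR x).left).mapIso
        ((Scheme.Modules.restrictFunctorIsoPullback (trR x).left).app _)).symm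
  change Curv2.euler K A.left _ = _ * Curv2.euler K A.left L at h2
  rw [h0, mul_zero, h3, CurveLib.euler_eq_sum (K := K) (CohB1.tensorPow L (m ^ 2)) 1 fun p hp => hvan p hp,
    Finset.sum_range_one] at h2
  refine hq (m ^ 2) (by omega) ?_
  refine (VolLib.h_congr K (CurveLib.tmodUnit (CohB1.tensorPow L (m ^ 2)))).trans ?_
  simpa [VolLib.h] using h2

end Groth.Agent.AmpleVanLib
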